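import Groth.Agent.HenselLib.NewtonSystem
import Mathlib.RingTheory.Polynomial.Quotient
import Mathlib.RingTheory.AdjoinRoot
import Mathlib.RingTheory.Nakayama
import Mathlib.RingTheory.Localization.Ideal
import Mathlib.Algebra.Polynomial.Reverse

/-!
# Inverting the monic polynomials over a henselian local ring
-/

set_option autoImplicit false
set_option linter.style.haveILetI false

universe u

open Polynomial IsLocalRing

namespace ProjLineLib

variable {R L : Type u} [CommRing R] [CommRing L] [Algebra R L]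

/-- `φ` inverts exactly the monic polynomials. -/
def InvertsMonics (φ : R[X] →ₐ[R] L) : Prop :=
  (∀ g : R[X], g.Monic → IsUnit (φ g)) ∧ (∀ z : L, ∃ g a : R[X], g.Monic ∧ z * φ g = φ a) ∧
    ∀ a : R[X], φ a = 0 → ∃ g : R[X], g.Monic ∧ g * a = 0

variable {φ : R[X] →ₐ[R] L}

theorem map_maximal [IsLocalRing R] :
    (maximalIdeal R).map (algebraMap R L) = ((maximalIdeal R).map (algebraMap R R[X])).map φ.toRingHom := by
  rw [Ideal.map_map]
  exact congrArg (fun f => (maximalIdeal R).map f) φ.comp_algebraMap.symm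

theorem exists_mul_eq_of_mem_map (hφ : InvertsMonics φ) (I : Ideal R[X]) {z : L} (hz : z ∈ I.map φ.toRingHom) :
    ∃ g a : R[X], g.Monic ∧ a ∈ I ∧ z * φ g = φ a := by
  induction hz using Submodule.span_induction with
  | mem y hy => obtain ⟨a, ha, rfl⟩ := hy; exact ⟨1, a, monic_one, ha, by rw [map_one, mul_one]; rfl⟩
  | zero => exact ⟨1, 0, monic_one, zero_mem _, by rw [zero_mul, map_zero]⟩
  | add x y _ _ hx hy =>
    obtain ⟨g, a, hg, ha, h⟩ := hx
    obtain ⟨g', a', hg', ha', h'⟩ := hy
    refine ⟨g * g', a * g' + a' * g, hg.mul hg', add_mem (I.mul_mem_right _ ha) (I.mul_mem_right _ ha'), ?_⟩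
    rw [map_add, map_mul, map_mul, map_mul, ← h, ← h']
    ring
  | smul c x _ hx =>
    obtain ⟨g, a, hg, ha, h⟩ := hx
    obtain ⟨g', a', hg', h'⟩ := hφ.2.1 c
    refine ⟨g' * g, a' * a, hg'.mul hg, I.mul_mem_left _ ha, ?_⟩
    rw [smul_eq_mul, map_mul, map_mul, ← h, ← h']
    ring

variable [IsLocalRing R]

/-- A monic polynomial is a unit modulo an ideal that avoids the closed fibre. -/
theorem span_sup_eq_top {g : R[X]} (hg : g.Monic) {I : Ideal R[X]}
    (hI : I ⊔ (maximalIdeal R).map (algebraMap R R[X]) = ⊤) : Ideal.span {g} ⊔ I = ⊤ := by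
  let J := Ideal.span {g} ⊔ I
  haveI : Module.Finite R (R[X] ⧸ Ideal.span {g}) := hg.finite_quotient
  haveI : Module.Finite R (R[X] ⧸ J) :=
    Module.Finite.of_surjective (Ideal.Quotient.factorₐ R (le_sup_left : Ideal.span {g} ≤ J)).toLinearMap
      (Ideal.Quotient.factor_surjective (le_sup_left : Ideal.span {g} ≤ J))
  have h : (maximalIdeal R).map (algebraMap R (R[X] ⧸ J)) = ⊤ := by
    have h1 := congrArg (Ideal.map (Ideal.Quotient.mk J)) hI
    rw [Ideal.map_sup, Ideal.map_top, Ideal.map_eq_bot_iff_le_ker (Ideal.Quotient.mk J) |>.2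
      (by rw [Ideal.mk_ker]; exact le_sup_right), bot_sup_eq, Ideal.map_map] at h1
    exact h1
  have hsub : (⊤ : Submodule R (R[X] ⧸ J)) = ⊥ := by
    refine Submodule.eq_bot_of_le_smul_of_le_jacobson_bot (maximalIdeal R) ⊤ Module.Finite.fg_top ?_
      (maximalIdeal_le_jacobson _)
    rw [Ideal.smul_top_eq_map, h, Submodule.restrictScalars_top]
  haveI : Subsingleton (R[X] ⧸ J) := (Submodule.subsingleton_iff R).1 (subsingleton_of_bot_eq_top hsub.symm)
  exact Ideal.Quotient.subsingleton_iff.1 this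

theorem exists_mul_sub_one_mem {g : R[X]} (hg : g.Monic) {I : Ideal R[X]}
    (hI : I ⊔ (maximalIdeal R).map (algebraMap R R[X]) = ⊤) : ∃ u, g * u - 1 ∈ I := by
  obtain ⟨x, hx, y, hy, h⟩ := Submodule.mem_sup.1 ((span_sup_eq_top hg hI).ge (Submodule.mem_top (x := 1)))
  obtain ⟨u, rfl⟩ := Ideal.mem_span_singleton.1 hx
  exact ⟨u, by rw [← h, sub_add_cancel_left]; exact neg_mem hy⟩

theorem ideals_polynomial (hφ : InvertsMonics φ) (I : Ideal R[X])
    (hI : I ⊔ (maximalIdeal R).map (algebraMap R R[X]) = ⊤) :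
    (I.map φ.toRingHom).comap φ.toRingHom = I ∧
      I.map φ.toRingHom ⊔ (maximalIdeal R).map (algebraMap R L) = ⊤ ∧
      Function.Bijective (Ideal.quotientMap (I.map φ.toRingHom) φ.toRingHom Ideal.le_comap_map) := by
  have hec : (I.map φ.toRingHom).comap φ.toRingHom = I := by
    refine le_antisymm (fun x hx => ?_) Ideal.le_comap_map
    obtain ⟨g, a, hg, ha, h⟩ := exists_mul_eq_of_mem_map hφ I (Ideal.mem_comap.1 hx)
    obtain ⟨g', hg', h'⟩ := hφ.2.2 (x * g - a) (by rw [map_sub, map_mul]; exact sub_eq_zero.2 h)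
    obtain ⟨u, hu⟩ := exists_mul_sub_one_mem (hg'.mul hg) hI
    rw [mul_sub, sub_eq_zero] at h'
    have h2 : x * (g' * g * u) ∈ I := by
      rw [show x * (g' * g * u) = (g' * (x * g)) * u by ring, h']
      exact I.mul_mem_right _ (I.mul_mem_left _ ha)
    rw [show x = x * (g' * g * u) - x * (g' * g * u - 1) by ring]
    exact sub_mem h2 (I.mul_mem_left _ hu)
  refine ⟨hec, by rw [map_maximal (φ := φ), ← Ideal.map_sup, hI, Ideal.map_top], ?_, fun z => ?_⟩
  · refine (injective_iff_map_eq_zero _).2 fun x hx => ?_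
    obtain ⟨x, rfl⟩ := Ideal.Quotient.mk_surjective x
    rw [Ideal.quotientMap_mk, Ideal.Quotient.eq_zero_iff_mem] at hx
    exact Ideal.Quotient.eq_zero_iff_mem.2 (hec.le hx)
  · obtain ⟨z, rfl⟩ := Ideal.Quotient.mk_surjective z
    obtain ⟨g, a, hg, h⟩ := hφ.2.1 z
    obtain ⟨u, hu⟩ := exists_mul_sub_one_mem hg hI
    refine ⟨Ideal.Quotient.mk I (a * u), ?_⟩
    rw [Ideal.quotientMap_mk, Ideal.Quotient.eq]
    show φ (a * u) - z ∈ _
    rw [map_mul, ← h, show z * φ g * φ u - z = z * (φ (g * u - 1)) by rw [map_sub, map_mul, map_one]; ring]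
    exact Ideal.mul_mem_left _ _ (Ideal.mem_map_of_mem φ.toRingHom hu)

theorem ideals_laurent [HenselianLocalRing R] (hφ : InvertsMonics φ) (J : Ideal L)
    (hJ : J ⊔ (maximalIdeal R).map (algebraMap R L) = ⊤) :
    (J.comap φ.toRingHom).map φ.toRingHom = J ∧
      J.comap φ.toRingHom ⊔ (maximalIdeal R).map (algebraMap R R[X]) = ⊤ := by
  have hker : RingHom.ker (mapRingHom (residue R)) = (maximalIdeal R).map (algebraMap R R[X]) := by
    rw [Polynomial.ker_mapRingHom, Polynomial.algebraMap_eq, ker_residue]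
  refine ⟨le_antisymm Ideal.map_comap_le fun z hz => ?_, ?_⟩
  · obtain ⟨g, a, hg, h⟩ := hφ.2.1 z
    obtain ⟨v, hv⟩ := hφ.1 g hg
    have ha : a ∈ J.comap φ.toRingHom := by
      show φ a ∈ J
      rw [← h]
      exact J.mul_mem_right _ hz
    rw [show z = φ a * ↑v⁻¹ by rw [← h, ← hv, Units.mul_inv_cancel_right]]
    exact Ideal.mul_mem_right _ _ (Ideal.mem_map_of_mem φ.toRingHom ha)
  · obtain ⟨j, hj, b, hb, h1⟩ := Submodule.mem_sup.1 (hJ.ge (Submodule.mem_top (x := 1)))
    rw [map_maximal (φ := φ)] at hb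
    obtain ⟨g, a, hg, ha, h⟩ := exists_mul_eq_of_mem_map hφ _ hb
    have hf : φ (g - a) ∈ J := by
      rw [map_sub, ← h, show φ g - b * φ g = (1 - b) * φ g by ring, show (1 : L) - b = j by rw [← h1]; ring]
      exact J.mul_mem_right _ hj
    have hres : (g - a).map (residue R) = g.map (residue R) * 1 := by
      rw [mul_one, Polynomial.map_sub, show a.map (residue R) = 0 from RingHom.mem_ker.1 (hker.ge ha), sub_zero]
    obtain ⟨g', h', hgh, hg', -, hh'⟩ :=
      HenselLib.exists_factor_lift_left (g - a) (g.map (residue R)) 1 (hg.map _) isCoprime_one_right hres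
    have hh : h' ∈ J.comap φ.toRingHom := by
      show φ h' ∈ J
      rw [hgh, map_mul] at hf
      exact (J.unit_mul_mem_iff_mem (hφ.1 g' hg')).1 hf
    rw [Ideal.eq_top_iff_one, show (1 : R[X]) = h' + -(h' - 1) by ring]
    refine add_mem (Ideal.mem_sup_left hh) (Ideal.mem_sup_right (neg_mem ?_))
    rw [← hker, RingHom.mem_ker, map_sub, map_one]
    exact sub_eq_zero.2 hh'

/-- The localisation of `R[t]` at `t` and the polynomials with constant term one inverts exactly the monic
polynomials in `t⁻¹`. -/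
theorem invertsMonics_zariskiLaurent [Algebra R[X] L] [IsScalarTower R R[X] L]
    [IsLocalization (Submonoid.closure ({f : R[X] | f.coeff 0 = 1} ∪ {X})) L]
    (ψ : R[X] →ₐ[R] L) (hψ : ψ X * algebraMap R[X] L X = 1) : InvertsMonics ψ := by
  classical
  let M : Submonoid R[X] :=
    { carrier := {g | g.Monic}
      one_mem' := monic_one
      mul_mem' := fun hf hg => Monic.mul hf hg }
  let L' := Localization M
  let S := Submonoid.closure ({f : R[X] | f.coeff 0 = 1} ∪ {X})
  have hψu : ∀ g : M, IsUnit (ψ g) := by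
    rintro ⟨g, hg⟩
    letI : Invertible (ψ X) := ⟨algebraMap R[X] L X, by rw [mul_comm]; exact hψ, hψ⟩
    have h2 := eval₂_reverse_mul_pow (algebraMap R L) (ψ X) g
    show IsUnit (ψ g)
    rw [show ψ g = aeval (ψ X) g by rw [aeval_algHom_apply, aeval_X_left_apply], aeval_def, ← h2]
    refine IsUnit.mul ?_ (IsUnit.pow _ (IsUnit.of_mul_eq_one _ hψ))
    have h3 : g.reverse.eval₂ (algebraMap R L) (⅟(ψ X)) = algebraMap R[X] L g.reverse := by
      show g.reverse.eval₂ (algebraMap R L) (algebraMap R[X] L X) = _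
      rw [← aeval_def, ← IsScalarTower.coe_toAlgHom' R R[X] L, aeval_algHom_apply, aeval_X_left_apply]
    rw [h3]
    exact IsLocalization.map_units L (⟨g.reverse, Submonoid.subset_closure (Or.inl (by
      show g.reverse.coeff 0 = 1
      rw [coeff_zero_reverse]; exact hg))⟩ : S)
  let Ψ : L' →+* L := IsLocalization.lift (M := M) (g := ψ.toRingHom) hψu
  have hsu : IsUnit (algebraMap R[X] L' X) := IsLocalization.map_units L' (⟨X, monic_X⟩ : M)
  letI : Invertible (algebraMap R[X] L' X) := hsu.invertible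
  let t' : L' := ⅟(algebraMap R[X] L' X)
  let φ' : R[X] →ₐ[R] L' := aeval t'
  have hφu : ∀ f : S, IsUnit (φ' f) := by
    rintro ⟨f, hf⟩
    show IsUnit (φ' f)
    induction hf using Submonoid.closure_induction with
    | one => rw [map_one]; exact isUnit_one
    | mul a b _ _ ha hb => rw [map_mul]; exact ha.mul hb
    | mem f hf =>
      rcases hf with hf | rfl
      · have hf0 : f.coeff 0 = 1 := hf
        have hf' : f ≠ 0 := fun h => by rw [h, coeff_zero] at hf0; exact zero_ne_one hf0
        have htr : f.natTrailingDegree = 0 :=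
          natTrailingDegree_eq_zero.2 (Or.inr (by rw [hf0]; exact one_ne_zero))
        have hrev : f.reverse.reverse = f := by
          have hd : f.reverse.natDegree = f.natDegree := by rw [reverse_natDegree, htr, Nat.sub_zero]
          show reflect f.reverse.natDegree (reflect f.natDegree f) = f
          rw [hd, reflect_reflect]
        have hmon : f.reverse.Monic := by
          rw [Monic, reverse_leadingCoeff, trailingCoeff, htr, hf0]
        have h2 := eval₂_reverse_mul_pow (algebraMap R L') (algebraMap R[X] L' X) f.reverse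
        rw [hrev] at h2
        refine isUnit_of_mul_isUnit_left (y := algebraMap R[X] L' X ^ f.reverse.natDegree) ?_
        rw [aeval_def, h2, ← aeval_def, ← IsScalarTower.coe_toAlgHom' R R[X] L', aeval_algHom_apply,
          aeval_X_left_apply]
        exact IsLocalization.map_units L' (⟨f.reverse, hmon⟩ : M)
      · rw [show φ' X = t' from aeval_X t']
        exact isUnit_of_invertible _
  let Φ : L →+* L' := IsLocalization.lift (M := S) (g := φ'.toRingHom) hφu
  have hΦt : Φ (algebraMap R[X] L X) = t' := by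
    show IsLocalization.lift hφu (algebraMap R[X] L X) = t'
    rw [IsLocalization.lift_eq]
    exact aeval_X t'
  have hΨs : Ψ (algebraMap R[X] L' X) = ψ X := IsLocalization.lift_eq hψu X
  have hΨt : Ψ t' = algebraMap R[X] L X := by
    have h : Ψ t' * ψ X = 1 := by rw [← hΨs, ← map_mul, invOf_mul_self, map_one]
    calc Ψ t' = Ψ t' * (ψ X * algebraMap R[X] L X) := by rw [hψ, mul_one]
      _ = algebraMap R[X] L X := by rw [← mul_assoc, h, one_mul]
  have hΦs : Φ (ψ X) = algebraMap R[X] L' X := by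
    have h : Φ (ψ X) * t' = 1 := by rw [← hΦt, ← map_mul, hψ, map_one]
    calc Φ (ψ X) = Φ (ψ X) * (t' * algebraMap R[X] L' X) := by rw [invOf_mul_self, mul_one]
      _ = algebraMap R[X] L' X := by rw [← mul_assoc, h, one_mul]
  have hΦC : ∀ r, Φ (algebraMap R L r) = algebraMap R L' r := fun r => by
    rw [IsScalarTower.algebraMap_apply R R[X] L, show Φ (algebraMap R[X] L _) = _ from IsLocalization.lift_eq hφu _]
    exact φ'.commutes r
  have hΨC : ∀ r, Ψ (algebraMap R L' r) = algebraMap R L r := fun r => by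
    rw [IsScalarTower.algebraMap_apply R R[X] L', show Ψ (algebraMap R[X] L' _) = _ from IsLocalization.lift_eq hψu _]
    exact ψ.commutes r
  have h1 : Ψ.comp Φ = RingHom.id L := by
    refine IsLocalization.ringHom_ext S (Polynomial.ringHom_ext (fun r => ?_) ?_)
    · simp only [RingHom.comp_apply, RingHom.id_apply]
      rw [← Polynomial.algebraMap_eq, ← IsScalarTower.algebraMap_apply, hΦC, hΨC]
    · simp only [RingHom.comp_apply, RingHom.id_apply]
      rw [hΦt, hΨt]
  have h2 : Φ.comp Ψ = RingHom.id L' := by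
    refine IsLocalization.ringHom_ext M (Polynomial.ringHom_ext (fun r => ?_) ?_)
    · simp only [RingHom.comp_apply, RingHom.id_apply]
      rw [← Polynomial.algebraMap_eq, ← IsScalarTower.algebraMap_apply, hΨC, hΦC]
    · simp only [RingHom.comp_apply, RingHom.id_apply]
      rw [hΨs, hΦs]
  refine ⟨fun g hg => hψu ⟨g, hg⟩, fun z => ?_, fun a ha => ?_⟩
  · obtain ⟨⟨a, g⟩, h⟩ := IsLocalization.surj M (Φ z)
    refine ⟨g, a, g.2, ?_⟩
    have h' := congrArg Ψ h
    rw [map_mul, ← RingHom.comp_apply Ψ Φ, h1, RingHom.id_apply,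
      show Ψ (algebraMap R[X] L' g) = ψ g from IsLocalization.lift_eq hψu _,
      show Ψ (algebraMap R[X] L' a) = ψ a from IsLocalization.lift_eq hψu _] at h'
    exact h'
  · have h : algebraMap R[X] L' a = 0 := by
      rw [← RingHom.id_apply (algebraMap R[X] L' a), ← h2, RingHom.comp_apply,
        show Ψ (algebraMap R[X] L' a) = ψ a from IsLocalization.lift_eq hψu _, ha, map_zero]
    obtain ⟨⟨g, hg⟩, hga⟩ := (IsLocalization.map_eq_zero_iff M L' a).1 h
    exact ⟨g, hg, hga⟩

end ProjLineLib
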